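import Cfsg.Agent.LyRec.Alpha.Checks

/-!
# The centraliser of the two marked involutions in the cover, as a list of codes
-/

set_option autoImplicit false
set_option maxRecDepth 100000

namespace Cfsg.Agent.LyRec.Alpha

open Cfsg.Agent.LyLocal Cfsg.Agent.CosetCert

variable [IsSimpleGroup P]

/-- The second marked involution. -/
noncomputable def uE : DD := wd uD

/-- The generators. -/
noncomputable def gE (k : Fin 3) : DD := wd (gen k)

/-- The element moving `uE` to `uE * tD`. -/
noncomputable def wE : DD := wd wW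

theorem wd_append (w v : List (Fin 9)) : wd (w ++ v) = wd w * wd v := by
  simp [wd]

theorem wd_nil : wd [] = 1 := rfl

theorem wd_tt : wd [0, 1, 0, 1] = tD := by
  apply Subtype.ext
  rw [wd_val]
  have h := lifts.prod_sq (restOf 0) (restOf 1) (by decide)
  rw [← xl_eq, ← xl_eq, pow_two] at h
  show liftW _ = lifts.t
  rw [← h]
  simp [liftW, mul_assoc]

theorem tD_comm (d : DD) : d * tD = tD * d := Subtype.ext (tt_central d.2)

theorem rep_one : Rep 1 idc := wd_nil ▸ rep_of_codeB code_one

theorem rep_t : Rep tD tC := wd_tt ▸ rep_of_codeB code_t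

theorem rep_u : Rep uE uC := rep_of_codeB code_u

theorem rep_gen (k : Fin 3) : Rep (gE k) (gc.getD k.val idc) := rep_of_codeB (code_gen k)

theorem uE_sq : uE * uE = 1 :=
  (rep_u.mul rep_u).eq (Nat.eq_of_beq_eq_true u_codes.1 ▸ rep_one)

theorem uE_ne_one : uE ≠ 1 := fun h =>
  absurd ((h ▸ rep_u).unique rep_one) (by decide +kernel)

theorem uE_ne_t : uE ≠ tD := fun h => by
  have := (h ▸ rep_u).unique rep_t
  have h2 := el_facts.2.2.1
  rw [this, Nat.beq_refl] at h2
  exact absurd h2 (by decide)

theorem uE_gen (k : Fin 3) : uE * gE k = gE k * uE := by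
  have h := Nat.eq_of_beq_eq_true (List.all_eq_true.1 u_codes.2 k.val (by fin_cases k <;> simp))
  exact (rep_u.mul (rep_gen k)).eq (h ▸ (rep_gen k).mul rep_u)

theorem wE_inv : wE⁻¹ = wd wWi :=
  inv_eq_of_mul_eq_one_right (by rw [wE, ← wd_append, eq_of_eqW eq_wWi, wd_nil])

theorem wE_uE : wE * uE = uE * tD * wE := by
  have h : wE * uE * wE⁻¹ = uE * tD := by
    rw [wE_inv]
    refine Rep.eq ?_ (rep_u.mul rep_t)
    have := rep_of_codeB code_wu
    rwa [wd_append, wd_append] at this
  rw [← h, inv_mul_cancel_right]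

theorem od_uE : od uE = uE := by
  rw [uE, od_wd]
  exact (rep_of_codeB code_odu).eq rep_u

/-- The centraliser of the two involutions. -/
noncomputable def Dg : Subgroup DD := Subgroup.closure (Set.range gE)

instance : Finite DD := lifts.grp_finite five_le eleven_ne

theorem hasB_iff {l : List Nat} {c : Nat} : hasB l c = true ↔ c ∈ l := by
  simp [hasB, List.any_eq_true]

theorem mem_of_hasT : ∀ (T : BT) (c : Nat), hasT T c = true → c ∈ flatT T
  | .leaf, c, h => by simp [hasT] at h
  | .node l k r, c, h => by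
    change cond (Nat.beq c k) true (cond (Nat.blt c k) (hasT l c) (hasT r c)) = true at h
    rw [flatT, List.mem_append, List.mem_cons]
    cases h1 : Nat.beq c k
    · rw [h1, cond_false] at h
      cases h2 : Nat.blt c k
      · rw [h2, cond_false] at h
        exact Or.inr (Or.inr (mem_of_hasT r c h))
      · rw [h2, cond_true] at h
        exact Or.inl (mem_of_hasT l c h)
    · exact Or.inr (Or.inl (Nat.eq_of_beq_eq_true h1))

theorem mem_of_hasE {c : Nat} (h : hasE c = true) : c ∈ EL :=
  el_tree.1 ▸ mem_of_hasT ELT c (by simpa [hasE] using h)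

theorem el_nodup : EL.Nodup := by
  have key : ∀ (l : List Nat) (p : Nat), List.rec (motive := fun _ => Nat → Bool) (fun _ => true)
      (fun x _ ih p => Nat.blt p x && ih x) l p = true → (∀ x ∈ l, p < x) ∧ l.Pairwise (· < ·) := by
    intro l
    induction l with
    | nil => exact fun p _ => ⟨fun x hx => absurd hx List.not_mem_nil, List.Pairwise.nil⟩
    | cons a l ih =>
      intro p h
      simp only [Bool.and_eq_true, Nat.blt_eq] at h
      obtain ⟨h1, h2⟩ := ih a h.2
      exact ⟨fun x hx => (List.mem_cons.1 hx).elim (fun e => e ▸ h.1) (fun hx => h.1.trans (h1 x hx)),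
        List.pairwise_cons.2 ⟨h1, h2⟩⟩
  exact (key EL 0 el_tree.2.1).2.imp fun h => h.ne

theorem code_of_Dg {d : DD} (hd : d ∈ Dg) : ∃ c ∈ EL, Rep d c := by
  have h : d ∈ Submonoid.closure (Set.range gE) := by
    rwa [← Subgroup.closure_toSubmonoid_of_finite]
  clear hd
  induction h using Submonoid.closure_induction_right with
  | one => exact ⟨idc, mem_of_hasE el_tree.2.2, rep_one⟩
  | mul_right y _ z hz ih =>
    obtain ⟨k, rfl⟩ := hz
    obtain ⟨c, hc, hr⟩ := ih
    have h := List.all_eq_true.1 (List.all_eq_true.1 el_facts.2.2.2.2.2.1 c hc) k.val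
      (by fin_cases k <;> simp)
    exact ⟨_, mem_of_hasE h, hr.mul (rep_gen k)⟩

theorem elt_of_code {c : Nat} (hc : c ∈ EL) : ∃ d ∈ Dg, Rep d c := by
  have hc' : c ∈ (EL.zip EW).map Prod.fst := by
    rw [List.map_fst_zip (le_of_eq (el_facts.1.trans el_facts.2.1.symm))]
    exact hc
  obtain ⟨⟨c', w⟩, hq, rfl⟩ := List.mem_map.1 hc'
  have h' : evC gc w = c' := Nat.eq_of_beq_eq_true (List.all_eq_true.1 el_facts.2.2.2.2.2.2 _ hq)
  show ∃ d ∈ Dg, Rep d c'
  rw [← h']
  suffices key : ∀ (w : List Nat) (d : DD) (a : Nat), d ∈ Dg → Rep d a → ∃ e ∈ Dg, Rep e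
      (List.rec (motive := fun _ => Nat → Nat) (fun acc => acc)
        (fun x _ ih acc => force (cm acc (gc.getD x idc)) ih) w a) from
    key _ 1 idc (one_mem _) rep_one
  intro w
  induction w with
  | nil => exact fun d a hd hr => ⟨d, hd, hr⟩
  | cons x w ih =>
    intro d a hd hr
    simp only [force_eq] at ih ⊢
    rcases Nat.lt_or_ge x 3 with hx | hx
    · exact ih _ _ (mul_mem hd (Subgroup.subset_closure ⟨⟨x, hx⟩, rfl⟩)) (hr.mul (rep_gen ⟨x, hx⟩))
    · rw [List.getD_eq_default _ _ (by simp [gc]; omega)]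
      exact ih _ _ (mul_mem hd (one_mem _)) (hr.mul rep_one)

theorem card_Dg : 1152 ≤ Nat.card Dg := by
  classical
  choose f hf hr using fun i : Fin 1152 => elt_of_code (c := EL.getD i.val 0) (by
    rw [List.getD_eq_getElem _ _ (by rw [el_facts.1]; exact i.isLt)]
    exact List.getElem_mem _)
  have hinj : Function.Injective fun i : Fin 1152 => (⟨f i, hf i⟩ : Dg) := fun i j h => by
    have h' : f i = f j := congrArg Subtype.val h
    have e := (h' ▸ hr i).unique (hr j)
    rw [List.getD_eq_getElem _ _ (by rw [el_facts.1]; exact i.isLt),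
      List.getD_eq_getElem _ _ (by rw [el_facts.1]; exact j.isLt)] at e
    exact Fin.ext ((el_nodup.getElem_inj_iff).1 e)
  simpa using Nat.card_le_card_of_injective _ hinj

/-- The image of the second involution. -/
noncomputable def sA : A11 := altW uD

theorem proj_uE : proj uE = sA := by
  obtain ⟨h, e⟩ := liftW_spec uD
  rw [sA, ← e]
  exact congrArg proj (Subtype.ext (wd_val uD))

attribute [local irreducible] sA in
theorem card_cent_sA : Nat.card (Subgroup.centralizer ({sA} : Set A11)) ≤ 1152 := by
  classical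
  set σ : Equiv.Perm (Fin 11) := (sA : Equiv.Perm (Fin 11)) with hσ
  have hsupp : σ.support.card = 8 := by
    rw [hσ, sA]
    decide +kernel
  have hord : orderOf σ = 2 := orderOf_eq_prime (by rw [pow_two, hσ, sA]; decide +kernel)
    (fun e => by rw [e, Equiv.Perm.support_one, Finset.card_empty] at hsupp; omega)
  have hcyc : σ.cycleType = Multiset.replicate 4 2 := by
    obtain ⟨m, hm⟩ := Equiv.Perm.cycleType_prime_order (σ := σ) (by rw [hord]; exact Nat.prime_two)
    rw [hord] at hm
    have h := σ.sum_cycleType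
    rw [hm, Multiset.sum_replicate, hsupp, smul_eq_mul] at h
    rw [hm, show m + 1 = 4 by omega]
  have hK : Nat.card (Subgroup.centralizer ({σ} : Set (Equiv.Perm (Fin 11)))) = 2304 := by
    rw [Equiv.Perm.nat_card_centralizer, hcyc, Fintype.card_fin]
    norm_num [Multiset.sum_replicate, Multiset.prod_replicate, Multiset.toFinset_replicate,
      Multiset.count_replicate, Nat.factorial]
  let ι : A11 →* Equiv.Perm (Fin 11) := (alternatingGroup (Fin 11)).subtype
  have hle : (Subgroup.centralizer ({sA} : Set A11)).map ι ≤ Subgroup.centralizer {σ} := by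
    rintro _ ⟨x, hx, rfl⟩
    rw [Subgroup.mem_centralizer_singleton_iff]
    have h' := congrArg Subtype.val (Subgroup.mem_centralizer_singleton_iff.1 hx)
    rw [Subgroup.coe_mul, Subgroup.coe_mul] at h'
    exact h'
  have hne : (Subgroup.centralizer ({sA} : Set A11)).map ι ≠ Subgroup.centralizer {σ} := by
    intro e
    have hmem : Equiv.swap (8 : Fin 11) 9 ∈ (Subgroup.centralizer ({sA} : Set A11)).map ι := by
      rw [e, Subgroup.mem_centralizer_singleton_iff, hσ, sA]
      decide +kernel
    obtain ⟨x, -, hx⟩ := hmem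
    have h1 : Equiv.Perm.sign (x : Equiv.Perm (Fin 11)) = 1 := x.2
    have h2 : (x : Equiv.Perm (Fin 11)) = Equiv.swap 8 9 := hx
    rw [h2, Equiv.Perm.sign_swap (by decide)] at h1
    exact absurd h1 (by decide)
  rw [← Subgroup.card_map_of_injective (f := ι) Subtype.val_injective]
  obtain ⟨k, hk⟩ := Subgroup.card_dvd_of_le hle
  rw [hK] at hk
  have hk1 : k ≠ 1 := fun h => hne (Subgroup.eq_of_le_of_card_ge hle (by rw [hK, hk, h, mul_one]))
  rcases Nat.lt_or_ge k 2 with h | h
  · interval_cases k <;> omega
  · nlinarith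

theorem mem_Dg {d : DD} : d ∈ Dg ↔ d * uE = uE * d := by
  constructor
  · intro h
    have : Dg ≤ Subgroup.centralizer {uE} := by
      rw [Dg, Subgroup.closure_le]
      rintro _ ⟨k, rfl⟩
      rw [SetLike.mem_coe, Subgroup.mem_centralizer_singleton_iff]
      exact (uE_gen k).symm
    exact Subgroup.mem_centralizer_singleton_iff.1 (this h)
  · intro h
    classical
    have hsurj := proj_surj
    let C : Subgroup DD := (Subgroup.centralizer ({sA} : Set A11)).comap proj
    have hC : Nat.card C ≤ 2304 := by
      have h1 := C.card_mul_index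
      rw [Subgroup.index_comap_of_surjective _ hsurj, card_DD] at h1
      have h2 := (Subgroup.centralizer ({sA} : Set A11)).card_mul_index
      rw [card_A11] at h2
      have h3 := card_cent_sA
      have h4 : (Subgroup.centralizer ({sA} : Set A11)).index ≠ 0 := by intro e; rw [e] at h2; simp at h2
      nlinarith
    have hwC : wE ∈ C := by
      rw [Subgroup.mem_comap, Subgroup.mem_centralizer_singleton_iff, ← proj_uE, ← map_mul, wE_uE,
        map_mul, map_mul, (proj_one tD).2 (Or.inr rfl), mul_one]
    have hDC : Dg ≤ C := by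
      rw [Dg, Subgroup.closure_le]
      rintro _ ⟨k, rfl⟩
      rw [SetLike.mem_coe, Subgroup.mem_comap, Subgroup.mem_centralizer_singleton_iff, ← proj_uE,
        ← map_mul, ← map_mul, uE_gen]
    have hdC : d ∈ C := by
      rw [Subgroup.mem_comap, Subgroup.mem_centralizer_singleton_iff, ← proj_uE, ← map_mul,
        ← map_mul, h]
    by_contra hd
    have hnw : ∀ g, g * uE = uE * g → wE * g * uE = uE * tD * (wE * g) := by
      intro g hg
      rw [mul_assoc, hg, ← mul_assoc, wE_uE, mul_assoc]
    let f : Dg ⊕ Dg ⊕ Unit → C := Sum.elim (fun g => ⟨g.1, hDC g.2⟩)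
      (Sum.elim (fun g => ⟨wE * g.1, mul_mem hwC (hDC g.2)⟩) (fun _ => ⟨d, hdC⟩))
    have hcomm : ∀ g : Dg, g.1 * uE = uE * g.1 := fun g => by
      have : Dg ≤ Subgroup.centralizer {uE} := by
        rw [Dg, Subgroup.closure_le]
        rintro _ ⟨k, rfl⟩
        rw [SetLike.mem_coe, Subgroup.mem_centralizer_singleton_iff]
        exact (uE_gen k).symm
      exact Subgroup.mem_centralizer_singleton_iff.1 (this g.2)
    have hmove : ∀ g : Dg, ∀ x : DD, x * uE = uE * x → wE * g.1 ≠ x := by
      intro g x hx e
      have h1 := hnw g.1 (hcomm g)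
      rw [e, hx, mul_assoc] at h1
      have h2 : x = tD * x := mul_left_cancel h1
      exact tt_ne (congrArg Subtype.val (mul_eq_right.1 h2.symm))
    have hinj : Function.Injective f := by
      rintro (a | a | a) (b | b | b) e <;> have e' : (_ : DD) = _ := congrArg Subtype.val e <;>
        simp only [f, Sum.elim_inl, Sum.elim_inr] at e'
      · exact congrArg Sum.inl (Subtype.ext e')
      · exact absurd e'.symm (hmove b _ (hcomm a))
      · exact absurd (e' ▸ a.2) hd
      · exact absurd e' (hmove a _ (hcomm b))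
      · exact congrArg (Sum.inr ∘ Sum.inl) (Subtype.ext (mul_left_cancel e'))
      · exact absurd e' (hmove a _ h)
      · exact absurd (e'.symm ▸ b.2) hd
      · exact absurd e'.symm (hmove b _ h)
      · rfl
    have := Nat.card_le_card_of_injective f hinj
    rw [Nat.card_sum, Nat.card_sum, show Nat.card Unit = 1 from Nat.card_unique] at this
    have := card_Dg
    omega

end Cfsg.Agent.LyRec.Alpha
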