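import Cfsg.Agent.LyRec.Alpha.Model

/-!
# Kernel checks for the classification of the automorphisms
-/

set_option autoImplicit false
set_option maxRecDepth 100000

namespace Cfsg.Agent.LyRec.Alpha

open Cfsg.Agent.LyLocal Cfsg.Agent.CosetCert

variable [IsSimpleGroup P]

/-- The product of the images of the letters of a word. -/
noncomputable def evC (im : List Nat) (w : List Nat) : Nat :=
  List.rec (motive := fun _ => Nat → Nat) (fun acc => acc)
    (fun x _ ih acc => force (cm acc (im.getD x idc)) ih) w idc

/-- Membership. -/
noncomputable def hasB (l : List Nat) (c : Nat) : Bool := force c fun c => l.any fun e => Nat.beq e c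

/-- The entries of a search tree. -/
def flatT : BT → List Nat
  | .leaf => []
  | .node l k r => flatT l ++ k :: flatT r

/-- Search in a tree. -/
noncomputable def hasT : BT → Nat → Bool :=
  fun T => BT.rec (motive := fun _ => Nat → Bool) (fun _ => false)
    (fun _ k _ ihl ihr c => cond (Nat.beq c k) true (cond (Nat.blt c k) (ihl c) (ihr c))) T

/-- Membership in the group of codes. -/
noncomputable def hasE (c : Nat) : Bool := force c fun c => hasT ELT c

/-- A list increases. -/
noncomputable def incB (l : List Nat) : Bool :=
  List.rec (motive := fun _ => Nat → Bool) (fun _ => true)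
    (fun x _ ih p => Nat.blt p x && ih x) l 0

/-- No element conjugates the generators to the list `a`. -/
noncomputable def noConjB (a : List Nat) : Bool :=
  EL.all fun c => [0, 1, 2].any fun k =>
    !Nat.beq (cm c (gc.getD k idc)) (cm (a.getD k idc) c)

/-- An order test of the form `c ^ m = 1` and `c ^ l ≠ 1`. -/
noncomputable def ordB (m l : Nat) (c : Nat) : Bool :=
  Nat.beq (evC [c] (List.replicate m 0)) idc && !Nat.beq (evC [c] (List.replicate l 0)) idc

theorem code_one : codeB [] idc = true := by decide +kernel

theorem code_t : codeB [0, 1, 0, 1] tC = true := by decide +kernel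

theorem code_u : codeB uD uC = true := by decide +kernel

theorem code_odu : codeB (uD.map odL) uC = true := by decide +kernel

theorem code_wu : codeB (wW ++ uD ++ wWi) (cm uC tC) = true := by decide +kernel

theorem code_gen0 : codeB (gen 0) (gc.getD 0 idc) = true := by decide +kernel

theorem code_w0 : codeB (wW ++ gen 0 ++ wWi) (wSC.getD 0 idc) = true := by decide +kernel

theorem code_od0 : codeB ((gen 0).map odL) (odC.getD 0 idc) = true := by decide +kernel

theorem code_img00 : codeB (img 0 0) ((CL.getD 0 []).getD 0 idc) = true := by decide +kernel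

theorem code_odimg00 : codeB ((img 0 0).map odL) ((odImgC.getD 0 []).getD 0 idc) = true := by decide +kernel

theorem code_img10 : codeB (img 1 0) ((CL.getD 1 []).getD 0 idc) = true := by decide +kernel

theorem code_odimg10 : codeB ((img 1 0).map odL) ((odImgC.getD 1 []).getD 0 idc) = true := by decide +kernel

theorem code_img20 : codeB (img 2 0) ((CL.getD 2 []).getD 0 idc) = true := by decide +kernel

theorem code_odimg20 : codeB ((img 2 0).map odL) ((odImgC.getD 2 []).getD 0 idc) = true := by decide +kernel

theorem code_gen1 : codeB (gen 1) (gc.getD 1 idc) = true := by decide +kernel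

theorem code_w1 : codeB (wW ++ gen 1 ++ wWi) (wSC.getD 1 idc) = true := by decide +kernel

theorem code_od1 : codeB ((gen 1).map odL) (odC.getD 1 idc) = true := by decide +kernel

theorem code_img01 : codeB (img 0 1) ((CL.getD 0 []).getD 1 idc) = true := by decide +kernel

theorem code_odimg01 : codeB ((img 0 1).map odL) ((odImgC.getD 0 []).getD 1 idc) = true := by decide +kernel

theorem code_img11 : codeB (img 1 1) ((CL.getD 1 []).getD 1 idc) = true := by decide +kernel

theorem code_odimg11 : codeB ((img 1 1).map odL) ((odImgC.getD 1 []).getD 1 idc) = true := by decide +kernel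

theorem code_img21 : codeB (img 2 1) ((CL.getD 2 []).getD 1 idc) = true := by decide +kernel

theorem code_odimg21 : codeB ((img 2 1).map odL) ((odImgC.getD 2 []).getD 1 idc) = true := by decide +kernel

theorem code_gen2 : codeB (gen 2) (gc.getD 2 idc) = true := by decide +kernel

theorem code_w2 : codeB (wW ++ gen 2 ++ wWi) (wSC.getD 2 idc) = true := by decide +kernel

theorem code_od2 : codeB ((gen 2).map odL) (odC.getD 2 idc) = true := by decide +kernel

theorem code_img02 : codeB (img 0 2) ((CL.getD 0 []).getD 2 idc) = true := by decide +kernel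

theorem code_odimg02 : codeB ((img 0 2).map odL) ((odImgC.getD 0 []).getD 2 idc) = true := by decide +kernel

theorem code_img12 : codeB (img 1 2) ((CL.getD 1 []).getD 2 idc) = true := by decide +kernel

theorem code_odimg12 : codeB ((img 1 2).map odL) ((odImgC.getD 1 []).getD 2 idc) = true := by decide +kernel

theorem code_img22 : codeB (img 2 2) ((CL.getD 2 []).getD 2 idc) = true := by decide +kernel

theorem code_odimg22 : codeB ((img 2 2).map odL) ((odImgC.getD 2 []).getD 2 idc) = true := by decide +kernel

theorem code_gen (k : Fin 3) : codeB (gen k) (gc.getD k.val idc) = true := by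
  fin_cases k
  exacts [code_gen0, code_gen1, code_gen2]

theorem code_w (k : Fin 3) : codeB (wW ++ gen k ++ wWi) (wSC.getD k.val idc) = true := by
  fin_cases k
  exacts [code_w0, code_w1, code_w2]

theorem code_od (k : Fin 3) : codeB ((gen k).map odL) (odC.getD k.val idc) = true := by
  fin_cases k
  exacts [code_od0, code_od1, code_od2]

theorem code_img (j k : Fin 3) : codeB (img j k) ((CL.getD j.val []).getD k.val idc) = true := by
  fin_cases j <;> fin_cases k
  exacts [code_img00, code_img01, code_img02, code_img10, code_img11, code_img12, code_img20,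
    code_img21, code_img22]

theorem code_odimg (j k : Fin 3) :
    codeB ((img j k).map odL) ((odImgC.getD j.val []).getD k.val idc) = true := by
  fin_cases j <;> fin_cases k
  exacts [code_odimg00, code_odimg01, code_odimg02, code_odimg10, code_odimg11, code_odimg12,
    code_odimg20, code_odimg21, code_odimg22]

theorem eq_wWi : eqW (wW ++ wWi) [] = true := by decide +kernel

theorem u_codes : Nat.beq (cm uC uC) idc = true ∧
    [0, 1, 2].all (fun k => Nat.beq (cm uC (gc.getD k idc)) (cm (gc.getD k idc) uC)) = true := by
  decide +kernel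

theorem el_facts : EL.length = 1152 ∧ EW.length = 1152 ∧ Nat.beq tC uC = false ∧
    hasE tC = true ∧ hasE uC = true ∧
    EL.all (fun c => [0, 1, 2].all fun k => hasE (cm c (gc.getD k idc))) = true ∧
    (EL.zip EW).all (fun q => Nat.beq (evC gc q.2) q.1) = true := by
  decide +kernel

theorem el_tree : flatT ELT = EL ∧ incB EL = true ∧ hasE idc = true := by decide +kernel

theorem gen_words :
    Nat.beq (evC gc (List.replicate 2 0)) idc = true ∧ Nat.beq (evC gc [0]) idc = false ∧
    Nat.beq (evC gc (List.replicate 8 1)) idc = true ∧ Nat.beq (evC gc (List.replicate 4 1)) idc = false ∧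
    Nat.beq (evC gc (List.replicate 3 2)) idc = true ∧ Nat.beq (evC gc [2]) idc = false ∧
    Nat.beq (evC gc tWord) tC = true ∧ Nat.beq (evC gc uWord) uC = true ∧
    Nat.beq (evC gc zWord) idc = false ∧
    pairW.all (fun w => w.all (fun k => Nat.blt k 2) && Nat.beq (evC gc w) idc) = true ∧
    triW.all (fun w => Nat.beq (evC gc w) idc) = true ∧
    [0, 1, 2].all (fun k => Nat.beq (evC gc (wSW.getD k [])) (wSC.getD k idc) &&
      Nat.beq (evC gc (odW.getD k [])) (odC.getD k idc)) = true := by
  decide +kernel

theorem order_lists :
    EL.all (fun c => (!ordB 2 1 c || hasB O2 c) && (!ordB 8 4 c || hasB A8 c) &&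
      (!ordB 3 1 c || hasB B3 c)) = true := by
  decide +kernel

theorem conj1_check : O2.all (fun c => conj1.any fun q =>
    Nat.beq q.1 c && hasE q.2.1 && hasB reps1 q.2.2 && Nat.beq (cm q.2.1 c) (cm q.2.2 q.2.1))
    = true := by
  decide +kernel

theorem search_check : reps1.all (fun a => A8.all fun b =>
    !(pairW.all fun w => Nat.beq (evC [a, b] w) idc) || B3.all fun c =>
      !(Nat.beq (evC [a, b, c] tWord) uC && Nat.beq (evC [a, b, c] uWord) tC &&
          !Nat.beq (evC [a, b, c] zWord) idc && triW.all fun w => Nat.beq (evC [a, b, c] w) idc) ||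
        autW.any fun q => Nat.beq (q.1.getD 0 idc) a && Nat.beq (q.1.getD 1 idc) b &&
          Nat.beq (q.1.getD 2 idc) c) = true := by
  decide +kernel

theorem aut_check : autW.all (fun q => Nat.blt q.2.2 24 && hasE q.2.1 && [0, 1, 2].all fun k =>
    Nat.beq (cm q.2.1 (q.1.getD k idc)) (cm ((CL.getD q.2.2 []).getD k idc) q.2.1)) = true := by
  decide +kernel

theorem class_words : (List.range 24).all (fun j => [0, 1, 2].all fun k =>
    Nat.beq (evC gc ((clW.getD j []).getD k [])) ((CL.getD j []).getD k idc)) = true := by
  decide +kernel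

theorem bad_check : (List.range 18).all (fun i =>
    let q := bad.getD i (0, [], [], [])
    let im := CL.getD (6 + i) []
    if q.1 = 0 then
      noConjB [evC im ((clW.getD (6 + i) []).getD 0 []), evC im ((clW.getD (6 + i) []).getD 1 []),
        evC im ((clW.getD (6 + i) []).getD 2 [])]
    else
      ([0, 1, 2].all fun k => Nat.beq (evC im (wSW.getD k [])) (q.2.1.getD k idc) &&
          Nat.beq (evC gc (q.2.2.1.getD k [])) (q.2.1.getD k idc) &&
          Nat.beq (evC gc (q.2.2.2.getD k [])) (evC q.2.1 (q.2.2.1.getD k []))) &&
        noConjB [evC q.2.1 (q.2.2.2.getD 0 []), evC q.2.1 (q.2.2.2.getD 1 []),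
          evC q.2.1 (q.2.2.2.getD 2 [])]) = true := by
  decide +kernel

theorem good_check : (List.range 6).all (fun j => [0, 1, 2].all fun k =>
    Nat.beq (evC (CL.getD j []) ((clW.getD j []).getD k [])) (gc.getD k idc)) = true ∧
    EL.all (fun c => !([0, 1, 2].all fun k => Nat.beq (cm c (gc.getD k idc)) (cm (gc.getD k idc) c)) ||
      hasB [idc, tC, uC, cm tC uC] c) = true ∧
    (List.range 3).all (fun j => [0, 1, 2].all fun k =>
      Nat.beq (evC (CL.getD (3 + j) []) (odW.getD k [])) ((odImgC.getD j []).getD k idc)) = true := by
  decide +kernel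

end Cfsg.Agent.LyRec.Alpha
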