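import Mathlib.Data.Fin.VecNotation

/-! Generated: the marked elements of the centraliser of two involutions, as words in the nine lifts. -/

set_option autoImplicit false

namespace Cfsg.Agent.LyRec.Alpha

/-- The second marked involution. -/
def uD : List (Fin 9) := [0, 1, 0, 0, 1, 1, 3, 4, 2, 4, 4, 3, 3, 4, 5, 3, 5, 5, 4, 4]

/-- An element moving `uD` to `uD * tt`. -/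
def wW : List (Fin 9) := [5, 6, 4, 6, 6, 5, 5, 6, 7, 5, 7, 7, 6, 6, 7, 8, 6, 8, 8, 7, 7]

/-- Its inverse. -/
def wWi : List (Fin 9) := [7, 7, 7, 7, 8, 8, 8, 8, 6, 6, 8, 8, 7, 7, 6, 6, 6, 6, 7, 7, 7, 7, 5, 5, 7, 7, 6, 6, 5, 5, 5, 5, 6, 6, 6, 6, 4, 4, 6, 6, 5, 5]

/-- Generators. -/
def gen : Fin 3 → List (Fin 9) := ![[0, 1, 0, 0, 1, 1, 5, 1, 0, 1, 1, 5, 5, 4, 2, 1, 2, 2, 4, 4, 4, 3, 2, 3, 3, 4, 4, 4, 5, 3, 5, 5, 4, 4, 5, 6, 4, 6, 6, 5, 5, 6, 7, 5, 7, 7, 6, 6, 8, 7, 6, 7, 7, 8, 8, 0, 1, 0, 1],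
  [0, 0, 1, 0, 1, 1, 2, 1, 0, 1, 1, 2, 2, 3, 2, 1, 2, 2, 3, 3, 4, 3, 2, 3, 3, 4, 4, 5, 4, 3, 4, 4, 5, 5, 5, 6, 4, 6, 6, 5, 5, 6, 7, 5, 7, 7, 6, 6],
  [3, 3, 2, 0, 2, 2, 2, 1, 0, 1, 1, 2, 2, 2, 3, 1, 3, 3, 2, 2, 4, 3, 2, 3, 3, 4, 4, 5, 4, 3, 4, 4, 5, 5, 8, 7, 6, 7, 7, 8, 8]]

/-- The images of the generators under the three automorphisms. -/
def img : Fin 3 → Fin 3 → List (Fin 9) := ![![[1, 2, 0, 2, 2, 1, 1, 2, 3, 1, 3, 3, 2, 2, 5, 3, 2, 3, 3, 5, 5, 4, 5, 3, 5, 5, 4, 4, 5, 6, 4, 6, 6, 5, 5, 6, 7, 5, 7, 7, 6, 6, 0, 1, 0, 1],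
    [4, 3, 2, 3, 3, 4, 4, 5, 4, 3, 4, 4, 5, 5, 5, 6, 4, 6, 6, 5, 5, 6, 7, 5, 7, 7, 6, 6, 7, 8, 6, 8, 8, 7, 7, 0, 1, 0, 1],
    [3, 3, 2, 0, 2, 2, 3, 2, 1, 2, 2, 3, 3, 0, 1, 0, 1]],
  ![[1, 2, 0, 2, 2, 1, 1, 2, 3, 1, 3, 3, 2, 2, 5, 3, 2, 3, 3, 5, 5, 4, 5, 3, 5, 5, 4, 4, 5, 6, 4, 6, 6, 5, 5, 6, 7, 5, 7, 7, 6, 6, 8, 7, 6, 7, 7, 8, 8, 0, 1, 0, 1],
    [4, 3, 2, 3, 3, 4, 4, 5, 4, 3, 4, 4, 5, 5, 5, 6, 4, 6, 6, 5, 5, 6, 7, 5, 7, 7, 6, 6, 0, 1, 0, 1],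
    [3, 3, 2, 0, 2, 2, 3, 2, 1, 2, 2, 3, 3, 8, 7, 6, 7, 7, 8, 8, 0, 1, 0, 1]],
  ![[1, 2, 0, 2, 2, 1, 1, 2, 3, 1, 3, 3, 2, 2, 5, 3, 2, 3, 3, 5, 5, 4, 5, 3, 5, 5, 4, 4, 5, 6, 4, 6, 6, 5, 5, 6, 7, 5, 7, 7, 6, 6, 7, 8, 6, 8, 8, 7, 7, 0, 1, 0, 1],
    [4, 3, 2, 3, 3, 4, 4, 5, 4, 3, 4, 4, 5, 5, 5, 6, 4, 6, 6, 5, 5, 6, 7, 5, 7, 7, 6, 6, 8, 7, 6, 7, 7, 8, 8, 0, 1, 0, 1],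
    [3, 3, 2, 0, 2, 2, 3, 2, 1, 2, 2, 3, 3, 7, 8, 6, 8, 8, 7, 7, 0, 1, 0, 1]]]

/-- Relabelling of the letters under the outer automorphism. -/
def odL : Fin 9 → Fin 9 := ![0, 1, 2, 3, 4, 5, 7, 6, 8]

end Cfsg.Agent.LyRec.Alpha
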