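import Cfsg.Agent.LyLocal.Fusion
import Cfsg.Agent.LyRec.Alpha.Spin
import Cfsg.Agent.LyRec.Alpha.Words

/-!
# Maps out of the double cover: the spin representation and the outer automorphism
-/

set_option autoImplicit false
set_option maxRecDepth 100000

namespace Cfsg.Agent.LyRec.Alpha

open Cfsg.Agent.LyLocal Cfsg.Agent.LyMat Cfsg.Agent.AltMult Cfsg.Agent.ShortPres

variable [IsSimpleGroup P]

/-- The letters as elements of the cover. -/
noncomputable def ddE (i : Fin 9) : DD := ⟨lifts.E (restOf i), lifts.E_mem _⟩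

theorem ddE_val (i : Fin 9) : (ddE i : P) = el (12 + i.val) := (xl_eq i).symm

/-- An element of the cover given by a word. -/
noncomputable def wd (w : List (Fin 9)) : DD := (w.map ddE).prod

theorem wd_val : ∀ w : List (Fin 9), (wd w : P) = liftW w
  | [] => rfl
  | i :: w => by
    show ((ddE i * wd w : DD) : P) = el (12 + i.val) * liftW w
    rw [Subgroup.coe_mul, wd_val w, ddE_val]

/-- The central involution of the cover. -/
noncomputable def tD : DD := ⟨tt, tt_mem⟩

theorem exists_rest (x : Rest (0 : Fin 11) 1) : ∃ i : Fin 9, restOf i = x := by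
  have h := two_le_rest x
  refine ⟨⟨x.1.val - 2, by have := x.1.isLt; omega⟩, Subtype.ext (Fin.ext ?_)⟩
  show x.1.val - 2 + 2 = x.1.val
  omega

theorem closure_ddE : Subgroup.closure (Set.range ddE) = ⊤ := by
  apply Subgroup.map_injective DD.subtype_injective
  rw [MonoidHom.map_closure, ← MonoidHom.range_eq_map, Subgroup.range_subtype]
  show Subgroup.closure _ = Subgroup.closure (Set.range lifts.E)
  congr 1
  ext g
  constructor
  · rintro ⟨_, ⟨i, rfl⟩, rfl⟩
    exact ⟨restOf i, rfl⟩
  · rintro ⟨x, rfl⟩
    obtain ⟨i, rfl⟩ := exists_rest x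
    exact ⟨ddE i, ⟨i, rfl⟩, rfl⟩

/-- Lifts in another group receive the cover. -/
theorem exists_hom {U : Type} [Group U] (M : Fin 9 → U) (z : U) (hz : z * z = 1)
    (hc : ∀ i, Commute z (M i)) (h3 : ∀ i, M i ^ 3 = 1)
    (hp : ∀ i j, i ≠ j → (M i * M j) ^ 2 = z) :
    ∃ h : DD →* U, (∀ i, h (ddE i) = M i) ∧ h tD = z := by
  let ix : Rest (0 : Fin 11) 1 → Fin 9 := fun x =>
    ⟨x.1.val - 2, by have := x.1.isLt; have := two_le_rest x; omega⟩
  have hix : ∀ i, ix (restOf i) = i := fun i => Fin.ext (Nat.add_sub_cancel i.val 2)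
  have hinj : ∀ x y, x ≠ y → ix x ≠ ix y := fun x y hxy e => hxy (Subtype.ext (Fin.ext (by
    have := two_le_rest x; have := two_le_rest y; simp only [ix, Fin.ext_iff] at e; omega)))
  let L : Lifts (0 : Fin 11) 1 (P × U) :=
    { E := fun x => (lifts.E x, M (ix x))
      t := (tt, z)
      t_ne := fun h => tt_ne (congrArg Prod.fst h)
      t_sq := Prod.ext tt_sq hz
      t_comm := fun x => Prod.ext (lifts.t_comm x).eq (hc (ix x)).eq
      cube := fun x => Prod.ext (lifts.cube x) (h3 (ix x))
      prod_sq := fun x y hxy => Prod.ext (lifts.prod_sq x y hxy) (hp _ _ (hinj x y hxy)) }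
  have himg : L.grp.map (MonoidHom.fst P U) = DD := by
    show (Subgroup.closure (Set.range L.E)).map _ = Subgroup.closure (Set.range lifts.E)
    rw [MonoidHom.map_closure]
    congr 1
    ext g
    constructor
    · rintro ⟨_, ⟨x, rfl⟩, rfl⟩; exact ⟨x, rfl⟩
    · rintro ⟨x, rfl⟩; exact ⟨L.E x, ⟨x, rfl⟩, rfl⟩
  let p : L.grp →* DD := ((MonoidHom.fst P U).comp L.grp.subtype).codRestrict DD fun g =>
    himg ▸ ⟨g.1, g.2, rfl⟩
  have hsurj : Function.Surjective p := fun g => by
    obtain ⟨h, hh, e⟩ := (himg.symm ▸ g.2 : (g : P) ∈ L.grp.map (MonoidHom.fst P U))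
    exact ⟨⟨h, hh⟩, Subtype.ext e⟩
  haveI : Finite L.grp := L.grp_finite five_le eleven_ne
  let e : L.grp ≃* DD := MulEquiv.ofBijective p (hsurj.bijective_of_nat_card_le (le_of_eq
    (by rw [L.card_grp five_le eleven_ne, lifts.card_grp five_le eleven_ne])))
  refine ⟨(MonoidHom.snd P U).comp (L.grp.subtype.comp e.symm.toMonoidHom), fun i => ?_, ?_⟩
  · have : e.symm (ddE i) = ⟨L.E (restOf i), L.E_mem _⟩ := e.symm_apply_eq.2 (Subtype.ext rfl)
    show ((e.symm (ddE i) : L.grp) : P × U).2 = M i
    rw [this]
    exact congrArg M (hix i)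
  · have : e.symm tD = ⟨L.t, L.t_mem five_le eleven_ne⟩ := e.symm_apply_eq.2 (Subtype.ext rfl)
    show ((e.symm tD : L.grp) : P × U).2 = z
    rw [this]

/-! ## The spin matrices -/

/-- The mask of 32 fields. -/
def mask32 : Nat := maskF 32

/-- The matrices of the letters. -/
def smB (x : Nat) : List Blk :=
  [sm0, sm1, sm2, sm3, sm4, sm5, sm6, sm7, sm8].getD x sm0

/-- The identity, packed. -/
def id32 : List Nat := idM 32

/-- Minus the identity, packed. -/
def neg32 : List Nat := (List.range 32).map fun i => 4 * 16777216 ^ i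

theorem good_smB_check : ((List.range 9).all fun x => goodC 32 (rowsOf 32 (smB x))) = true := by
  decide +kernel

theorem good_smB (x : Nat) : Good 32 (rowsOf 32 (smB x)) := by
  by_cases hx : x < 9
  · exact good_of_check (List.all_eq_true.1 good_smB_check x (List.mem_range.2 hx))
  · rw [smB, List.getD_eq_default _ _ (by simp; omega)]
    exact good_of_check (List.all_eq_true.1 good_smB_check 0 (by simp))

/-- The matrix of a letter. -/
noncomputable def MS (x : Nat) : Matrix (Fin 32) (Fin 32) (ZMod 5) := toMat 32 (rowsOf 32 (smB x))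

/-- A word applied to packed rows gives packed rows. -/
noncomputable def actB (A T : List Nat) (w : List Nat) : Bool :=
  wordK mask32 smB w A fun Q => eqB Q T

theorem act_spec {A T w : List Nat} (hA : Good 32 A) (h : actB A T w = true) :
    toMat 32 A * (w.map MS).prod = toMat 32 T := by
  unfold actB at h
  rw [mask32] at h
  obtain ⟨Q, -, hQ, hk⟩ := wordK_spec (by norm_num) smB good_smB w A (fun Q => eqB Q T) hA
  rw [hk] at h
  rw [← eqB_eq h, hQ]
  rfl

theorem good_id32 : Good 32 id32 := good_of_check (by decide +kernel)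

theorem toMat_id32 : toMat 32 id32 = (1 : Matrix (Fin 32) (Fin 32) (ZMod 5)) :=
  toMat_one (by decide +kernel)

theorem neg32_check : ((List.range 32).all fun i => (List.range 32).all fun j =>
    Nat.beq (fieldN (neg32.getD i 0) j) (cond (Nat.beq i j) 4 0)) = true := by
  decide +kernel

theorem toMat_neg32 : toMat 32 neg32 = (-1 : Matrix (Fin 32) (Fin 32) (ZMod 5)) := by
  ext i j
  have h := Nat.eq_of_beq_eq_true (List.all_eq_true.1 (List.all_eq_true.1 neg32_check i.val
    (List.mem_range.2 i.isLt)) j.val (List.mem_range.2 j.isLt))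
  show ((fieldN (neg32.getD i.val 0) j.val : ℕ) : ZMod 5) = _
  rw [h, Matrix.neg_apply, Matrix.one_apply]
  by_cases hij : i = j
  · subst hij
    rw [Nat.beq_refl, if_pos rfl]
    rfl
  · rw [show Nat.beq i.val j.val = false from by
      rw [← Bool.not_eq_true, Nat.beq_eq]; exact fun e => hij (Fin.ext e), if_neg hij]
    simp

/-- The relations starting with the letter `i`. -/
noncomputable def relAt (i : Nat) : Bool :=
  actB id32 id32 [i, i, i] && (List.range 9).all fun j => Nat.ble j i || actB id32 neg32 [i, j, i, j]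

theorem rel_at0 : relAt 0 = true := by decide +kernel

theorem rel_at1 : relAt 1 = true := by decide +kernel

theorem rel_at2 : relAt 2 = true := by decide +kernel

theorem rel_at3 : relAt 3 = true := by decide +kernel

theorem rel_at4 : relAt 4 = true := by decide +kernel

theorem rel_at5 : relAt 5 = true := by decide +kernel

theorem rel_at6 : relAt 6 = true := by decide +kernel

theorem rel_at7 : relAt 7 = true := by decide +kernel

theorem rel_at8 : relAt 8 = true := by decide +kernel

theorem rel_checks (i : Fin 9) : relAt i.val = true := by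
  fin_cases i
  exacts [rel_at0, rel_at1, rel_at2, rel_at3, rel_at4, rel_at5, rel_at6, rel_at7, rel_at8]

theorem MS_cube (i : Fin 9) : MS i * (MS i * MS i) = 1 := by
  have h := rel_checks i
  rw [relAt, Bool.and_eq_true] at h
  have := act_spec good_id32 h.1
  simpa [toMat_id32, mul_assoc] using this

theorem MS_sq_lt (i j : Fin 9) (hij : i < j) :
    MS i * MS j * (MS i * MS j) = (-1 : Matrix (Fin 32) (Fin 32) (ZMod 5)) := by
  have h := rel_checks i
  rw [relAt, Bool.and_eq_true, List.all_eq_true] at h
  have h2 := h.2 j.val (List.mem_range.2 j.isLt)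
  rw [Bool.or_eq_true, Nat.ble_eq] at h2
  rcases h2 with h2 | h2
  · exact absurd h2 (Nat.not_le.2 hij)
  · have := act_spec good_id32 h2
    simpa [toMat_id32, toMat_neg32, mul_assoc] using this

theorem MS_sq (i j : Fin 9) (hij : i ≠ j) :
    MS i * MS j * (MS i * MS j) = (-1 : Matrix (Fin 32) (Fin 32) (ZMod 5)) := by
  rcases lt_or_gt_of_ne hij with h | h
  · exact MS_sq_lt i j h
  · calc MS i * MS j * (MS i * MS j)
        = MS j * (MS j * MS j) * (MS i * MS j * (MS i * MS j)) := by rw [MS_cube, one_mul]
      _ = MS j * MS j * (MS j * MS i * (MS j * MS i)) * MS j := by noncomm_ring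
      _ = -1 := by
        rw [MS_sq_lt j i h, mul_neg, mul_one, neg_mul, mul_assoc, MS_cube]

/-- The letters as units. -/
noncomputable def MU (i : Fin 9) : (Matrix (Fin 32) (Fin 32) (ZMod 5))ˣ :=
  ⟨MS i, MS i * MS i, MS_cube i, by rw [mul_assoc]; exact MS_cube i⟩

theorem exists_spin : ∃ h : DD →* (Matrix (Fin 32) (Fin 32) (ZMod 5))ˣ,
    (∀ i, h (ddE i) = MU i) ∧ h tD = -1 := by
  refine exists_hom MU (-1) (Units.ext (by simp)) (fun i => Units.ext (by simp))
    (fun i => Units.ext ?_) (fun i j hij => Units.ext ?_)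
  · rw [Units.val_pow_eq_pow_val, pow_succ', pow_two]
    exact MS_cube i
  · rw [Units.val_pow_eq_pow_val, pow_two]
    exact MS_sq i j hij

/-- The spin representation. -/
noncomputable def spin : DD →* (Matrix (Fin 32) (Fin 32) (ZMod 5))ˣ := Classical.choose exists_spin

theorem spin_E (i : Fin 9) : spin (ddE i) = MU i := (Classical.choose_spec exists_spin).1 i

theorem spin_t : spin tD = -1 := (Classical.choose_spec exists_spin).2

theorem spin_wd : ∀ w : List (Fin 9),
    (spin (wd w) : Matrix (Fin 32) (Fin 32) (ZMod 5)) = ((w.map Fin.val).map MS).prod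
  | [] => by simp [wd]
  | i :: w => by
    show (spin (ddE i * wd w) : Matrix (Fin 32) (Fin 32) (ZMod 5)) = _
    rw [map_mul, Units.val_mul, spin_E, spin_wd w]
    rfl

/-! ## The outer automorphism -/

theorem odL_inj : Function.Injective odL := by decide

theorem odL_odL : ∀ i, odL (odL i) = i := by decide

theorem exists_od : ∃ h : DD →* DD, (∀ i, h (ddE i) = ddE (odL i)) ∧ h tD = tD :=
  exists_hom (fun i => ddE (odL i)) tD (Subtype.ext tt_sq)
    (fun i => Subtype.ext (tt_central (ddE (odL i)).2).symm)
    (fun i => Subtype.ext (lifts.cube _))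
    (fun i j hij => Subtype.ext (lifts.prod_sq _ _ fun e => hij (odL_inj (Fin.ext (by
      have := congrArg (fun x : Rest (0 : Fin 11) 1 => x.1.val) e
      simp only [restOf] at this
      omega)))))

/-- The outer automorphism. -/
noncomputable def od : DD →* DD := Classical.choose exists_od

theorem od_E (i : Fin 9) : od (ddE i) = ddE (odL i) := (Classical.choose_spec exists_od).1 i

theorem od_t : od tD = tD := (Classical.choose_spec exists_od).2

theorem od_od (d : DD) : od (od d) = d := by
  have h : od.comp od = MonoidHom.id DD :=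
    MonoidHom.eq_of_eqOn_dense closure_ddE fun x hx => by
      obtain ⟨i, rfl⟩ := hx
      show od (od (ddE i)) = ddE i
      rw [od_E, od_E, odL_odL]
  exact DFunLike.congr_fun h d

theorem od_wd : ∀ w : List (Fin 9), od (wd w) = wd (w.map odL)
  | [] => map_one od
  | i :: w => by
    show od (ddE i * wd w) = ddE (odL i) * wd (w.map odL)
    rw [map_mul, od_E, od_wd w]

end Cfsg.Agent.LyRec.Alpha
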