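import Cfsg.Agent.LyRec.Alpha.Pairs

/-!
# The three possible actions of an element exchanging two commuting involutions
-/

set_option autoImplicit false
set_option maxRecDepth 100000

namespace Cfsg.Agent.LyRec.Alpha

open Cfsg.Agent.LyLocal Cfsg.Agent.CosetCert

variable [IsSimpleGroup P]

variable {G : Type*} [Group G] {S : Setting G}

/-- `y` exchanges the two marked involutions. -/
def Swaps (S : Setting G) (y : G) : Prop := y * S.t * y⁻¹ = S.f uE ∧ y * S.f uE * y⁻¹ = S.t

theorem Swaps.mul {y : G} (h : Swaps S y) {d : DD} (hd : d ∈ Dg) : Swaps S (S.f d * y) := by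
  constructor
  · rw [mul_inv_rev, show S.f d * y * S.t * (y⁻¹ * (S.f d)⁻¹) = S.f d * (y * S.t * y⁻¹) * (S.f d)⁻¹ by group,
      h.1, f_comm_u hd, mul_inv_cancel_right]
  · rw [mul_inv_rev, show S.f d * y * S.f uE * (y⁻¹ * (S.f d)⁻¹) =
      S.f d * (y * S.f uE * y⁻¹) * (S.f d)⁻¹ by group, h.2, f_comm_t d, mul_inv_cancel_right]

theorem Swaps.pair {y : G} (h : Swaps S y) {d : DD} (hd : d ∈ Dg) :
    ∃ e ∈ Dg, y * S.f d * y⁻¹ = S.f e := by
  obtain ⟨e, he, hee⟩ := exists_Dg (S := S) (g := y * S.f d * y⁻¹)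
    (by rw [← h.2, conj_mul, conj_mul, f_comm_u hd])
    (by rw [← h.1, conj_mul, conj_mul, f_comm_t d])
  exact ⟨e, he, hee.symm⟩

theorem Swaps.pair_code {y : G} (h : Swaps S y) {a : Nat} (ha : a ∈ EL) :
    ∃ b ∈ EL, Pair S y a b := by
  obtain ⟨d, hd, hr⟩ := elt_of_code ha
  obtain ⟨e, he, hee⟩ := h.pair hd
  obtain ⟨b, hb, hrb⟩ := code_of_Dg he
  exact ⟨b, hb, d, e, hr, hrb, hee⟩

theorem Swaps.pair_t {y : G} (h : Swaps S y) : Pair S y tC uC :=
  ⟨tD, uE, rep_t, rep_u, by rw [f_tD]; exact h.1⟩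

theorem Swaps.pair_u {y : G} (h : Swaps S y) : Pair S y uC tC :=
  ⟨uE, tD, rep_u, rep_t, by rw [f_tD]; exact h.2⟩

theorem gc_mem {k : Nat} (hk : k < 3) : gc.getD k idc ∈ EL := by
  obtain ⟨c, hc, hr⟩ := code_of_Dg (Subgroup.subset_closure ⟨⟨k, hk⟩, rfl⟩ : gE ⟨k, hk⟩ ∈ Dg)
  exact ((rep_gen ⟨k, hk⟩).unique hr) ▸ hc

/-- Relations between the images. -/
theorem img_test {y : G} {im : List Nat} (h : Imgs S y im) (hl : im.length ≤ 3) (w : List Nat) :
    Nat.beq (evC im w) idc = Nat.beq (evC gc w) idc := by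
  have hp := h.word hl w
  rw [Bool.eq_iff_iff, Nat.beq_eq, Nat.beq_eq]
  exact ⟨fun e => (e ▸ hp).left (Pair.one y), fun e => (e ▸ hp).right (Pair.one y)⟩

theorem imgs_one {y : G} {a b c : Nat} (h0 : Pair S y (gc.getD 0 idc) a)
    (h1 : Pair S y (gc.getD 1 idc) b) (h2 : Pair S y (gc.getD 2 idc) c) : Imgs S y [a, b, c] := by
  intro k hk
  interval_cases k <;> assumption

theorem evC_congr (im im' w : List Nat) (h : ∀ k ∈ w, im.getD k idc = im'.getD k idc) :
    evC im w = evC im' w := by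
  suffices key : ∀ (w : List Nat) (s : Nat), (∀ k ∈ w, im.getD k idc = im'.getD k idc) →
      List.rec (motive := fun _ => Nat → Nat) (fun acc => acc)
        (fun x _ ih acc => force (cm acc (im.getD x idc)) ih) w s =
      List.rec (motive := fun _ => Nat → Nat) (fun acc => acc)
        (fun x _ ih acc => force (cm acc (im'.getD x idc)) ih) w s from key w idc h
  intro w
  induction w with
  | nil => exact fun _ _ => rfl
  | cons k w ih =>
    intro s hw
    simp only [force_eq] at ih ⊢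
    rw [hw k List.mem_cons_self]
    exact ih _ fun j hj => hw j (List.mem_cons_of_mem _ hj)

/-- One of the twenty-four classes. -/
theorem exists_class {x : G} (hx : Swaps S x) :
    ∃ y, Swaps S y ∧ ∃ j < 24, Imgs S y (CL.getD j []) := by
  obtain ⟨a, ha, pa⟩ := hx.pair_code (gc_mem (k := 0) (by omega))
  obtain ⟨b, hb, pb⟩ := hx.pair_code (gc_mem (k := 1) (by omega))
  obtain ⟨c, hc, pc⟩ := hx.pair_code (gc_mem (k := 2) (by omega))
  have h := imgs_one pa pb pc
  obtain ⟨g1, g2, -⟩ := gen_words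
  have hord := List.all_eq_true.1 order_lists
  have ha2 : a ∈ O2 := by
    have := hord a ha
    simp only [Bool.and_eq_true, Bool.or_eq_true, hasB_iff] at this
    refine this.1.1.resolve_left ?_
    have e1 : Nat.beq (evC [a] (List.replicate 2 0)) idc = true :=
      (img_test h (by simp) (List.replicate 2 0)).trans g1
    have e2 : Nat.beq (evC [a] (List.replicate 1 0)) idc = false :=
      (img_test h (by simp) (List.replicate 1 0)).trans g2
    rw [ordB, e1, e2]
    decide
  obtain ⟨⟨c', d, r⟩, -, hq⟩ := List.any_eq_true.1 (List.all_eq_true.1 conj1_check a ha2)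
  simp only [Bool.and_eq_true, hasB_iff, Nat.beq_eq] at hq
  obtain ⟨⟨⟨-, hdE⟩, hr⟩, hcm⟩ := hq
  replace hdE := mem_of_hasE hdE
  obtain ⟨δ, hδ, hδr⟩ := elt_of_code hdE
  have hx1 := hx.mul hδ
  have pr : Pair S (S.f δ) a r := by
    obtain ⟨p, q, -, hq', -⟩ := id pa
    obtain ⟨ρ, -, hρ⟩ := elt_of_code (c := r) (by
      have : ∀ r ∈ reps1, r ∈ EL := fun r hr => mem_of_hasE
        (List.all_eq_true.1 (show reps1.all hasE = true by decide +kernel) r hr)
      exact this r hr)
    exact pair_inner hδr hq' hρ hcm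
  set x1 := S.f δ * x
  have pa1 : Pair S x1 (gc.getD 0 idc) r := pa.comp pr
  obtain ⟨b, hb, pb⟩ := hx1.pair_code (gc_mem (k := 1) (by omega))
  obtain ⟨c, hc, pc⟩ := hx1.pair_code (gc_mem (k := 2) (by omega))
  have h := imgs_one pa1 pb pc
  obtain ⟨-, -, g3, g4, g5, g6, g7, g8, g9, g10, g11, -⟩ := gen_words
  have hb8 : b ∈ A8 := by
    have := hord b hb
    simp only [Bool.and_eq_true, Bool.or_eq_true, hasB_iff] at this
    refine this.1.2.resolve_left ?_
    have e1 : Nat.beq (evC [b] (List.replicate 8 0)) idc = true :=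
      (img_test h (by simp) (List.replicate 8 1)).trans g3
    have e2 : Nat.beq (evC [b] (List.replicate 4 0)) idc = false :=
      (img_test h (by simp) (List.replicate 4 1)).trans g4
    rw [ordB, e1, e2]
    decide
  have hc3 : c ∈ B3 := by
    have := hord c hc
    simp only [Bool.and_eq_true, Bool.or_eq_true, hasB_iff] at this
    refine this.2.resolve_left ?_
    have e1 : Nat.beq (evC [c] (List.replicate 3 0)) idc = true :=
      (img_test h (by simp) (List.replicate 3 2)).trans g5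
    have e2 : Nat.beq (evC [c] (List.replicate 1 0)) idc = false :=
      (img_test h (by simp) (List.replicate 1 2)).trans g6
    rw [ordB, e1, e2]
    decide
  have s := List.all_eq_true.1 (List.all_eq_true.1 search_check r hr) b hb8
  rw [Bool.or_eq_true, Bool.not_eq_true'] at s
  have hpair : (pairW.all fun w => Nat.beq (evC [r, b] w) idc) = true := by
    rw [List.all_eq_true]
    intro w hw
    have hw2 := List.all_eq_true.1 g10 w hw
    rw [Bool.and_eq_true] at hw2
    refine Eq.trans (congrArg (fun z => Nat.beq z idc) (evC_congr [r, b] [r, b, c] w fun k hk => ?_))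
      ((img_test h (by simp) w).trans hw2.2)
    have hk2 : k < 2 := Nat.blt_eq.mp (List.all_eq_true.1 hw2.1 k hk)
    interval_cases k <;> rfl
  have s' := List.all_eq_true.1 (s.resolve_left (by rw [hpair]; decide)) c hc3
  rw [Bool.or_eq_true, Bool.not_eq_true'] at s'
  have htri : (Nat.beq (evC [r, b, c] tWord) uC && Nat.beq (evC [r, b, c] uWord) tC &&
      !Nat.beq (evC [r, b, c] zWord) idc &&
        triW.all fun w => Nat.beq (evC [r, b, c] w) idc) = true := by
    simp only [Bool.and_eq_true, Bool.not_eq_true', Nat.beq_eq, List.all_eq_true]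
    refine ⟨⟨⟨(h.word_of_eq (by simp) (Nat.eq_of_beq_eq_true g7)).right hx1.pair_t,
      (h.word_of_eq (by simp) (Nat.eq_of_beq_eq_true g8)).right hx1.pair_u⟩, ?_⟩, fun w hw => ?_⟩
    · exact (img_test h (by simp) zWord).trans g9
    · exact Nat.eq_of_beq_eq_true ((img_test h (by simp) w).trans (List.all_eq_true.1 g11 w hw))
  obtain ⟨⟨im, e, j⟩, hq, hm⟩ := List.any_eq_true.1 (s'.resolve_left (by rw [htri]; decide))
  simp only [Bool.and_eq_true, Nat.beq_eq] at hm
  have hA := List.all_eq_true.1 aut_check _ hq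
  simp only [Bool.and_eq_true, Nat.blt_eq, List.all_eq_true, Nat.beq_eq] at hA
  obtain ⟨⟨hj, he⟩, hcl⟩ := hA
  replace he := mem_of_hasE he
  obtain ⟨ε, hε, hεr⟩ := elt_of_code he
  refine ⟨S.f ε * x1, hx1.mul hε, j, hj, fun k hk => ?_⟩
  obtain ⟨p, q, hp, hq', heq'⟩ := h k hk
  have hkm : k ∈ [0, 1, 2] := by interval_cases k <;> simp
  have hcl' := hcl k hkm
  have him : im.getD k idc = [r, b, c].getD k idc := by
    interval_cases k
    exacts [hm.1.1, hm.1.2, hm.2]
  rw [him] at hcl'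
  refine Pair.comp ⟨p, q, hp, hq', heq'⟩ ?_
  have hmem : (CL.getD j []).getD k idc ∈ EL := mem_of_hasE (List.all_eq_true.1 (List.all_eq_true.1
    (show (List.range 24).all (fun j => [0, 1, 2].all fun k =>
      hasE ((CL.getD j []).getD k idc)) = true by decide +kernel) j (List.mem_range.2 hj)) k hkm)
  obtain ⟨ρ, -, hρ⟩ := elt_of_code hmem
  exact pair_inner hεr hq' hρ hcl'

theorem CL_len : ∀ j, (CL.getD j []).length ≤ 3 := by
  intro j
  rcases Nat.lt_or_ge j 24 with h | h
  · exact Nat.le_of_ble_eq_true (List.all_eq_true.1 (show (List.range 24).all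
      (fun j => Nat.ble (CL.getD j []).length 3) = true by decide +kernel) j (List.mem_range.2 h))
  · rw [List.getD_eq_default _ _ (le_trans (by decide +kernel) h)]
    exact Nat.zero_le 3

theorem wE_pair (k : Fin 3) : Pair S (S.f wE) (gc.getD k.val idc) (wSC.getD k.val idc) := by
  refine ⟨gE k, wd (wW ++ gen k ++ wWi), rep_gen k, rep_of_codeB (code_w k), ?_⟩
  rw [wd_append, wd_append, ← wE_inv, map_mul, map_mul, map_inv]
  rfl

/-- A conjugation by an element of the centraliser of both involutions. -/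
theorem not_noConj {y : G} {a b c : Nat} (ht : y * S.t = S.t * y) (hu : y * S.f uE = S.f uE * y)
    (h : Imgs S y [a, b, c]) : noConjB [a, b, c] = false := by
  obtain ⟨d, hd, rfl⟩ := exists_Dg ht hu
  obtain ⟨e, he, hr⟩ := code_of_Dg hd
  rw [← Bool.not_eq_true, noConjB, List.all_eq_true]
  intro hall
  obtain ⟨k, hk, hkk⟩ := List.any_eq_true.1 (hall e he)
  have hk3 : k < 3 := by simp at hk; omega
  rw [Bool.not_eq_true', ← Bool.not_eq_true, Nat.beq_eq] at hkk
  exact hkk (commute_of_pair hr (h k hk3))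

theorem class_good {y : G} (hy : Swaps S y) {j : Nat} (hj : j < 24)
    (h : Imgs S y (CL.getD j [])) : j < 6 := by
  by_contra hge
  obtain ⟨i, rfl⟩ : ∃ i, j = 6 + i := ⟨j - 6, by omega⟩
  have hb := List.all_eq_true.1 bad_check i (List.mem_range.2 (by omega))
  have hcw := fun k (hk : k < 3) => Nat.eq_of_beq_eq_true (List.all_eq_true.1
    (List.all_eq_true.1 class_words (6 + i) (List.mem_range.2 hj)) k (by interval_cases k <;> simp))
  have hl := CL_len (6 + i)
  dsimp only at hb
  split_ifs at hb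
  · have hsq : ∀ k < 3, Pair S (y * y) (gc.getD k idc)
        (evC (CL.getD (6 + i) []) ((clW.getD (6 + i) []).getD k [])) :=
      fun k hk => (h k hk).comp (h.word_of_eq hl (hcw k hk))
    rw [not_noConj (S := S) (y := y * y) ?_ ?_
      (imgs_one (hsq 0 (by omega)) (hsq 1 (by omega)) (hsq 2 (by omega)))] at hb
    · exact absurd hb (by decide)
    · exact mul_inv_eq_iff_eq_mul.1 (by
        rw [mul_inv_rev, show y * y * S.t * (y⁻¹ * y⁻¹) = y * (y * S.t * y⁻¹) * y⁻¹ by group,
          hy.1, hy.2])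
    · exact mul_inv_eq_iff_eq_mul.1 (by
        rw [mul_inv_rev, show y * y * S.f uE * (y⁻¹ * y⁻¹) = y * (y * S.f uE * y⁻¹) * y⁻¹ by group,
          hy.2, hy.1])
  · have hlen : (bad.getD i (0, [], [], [])).2.1.length ≤ 3 :=
      Nat.le_of_ble_eq_true (List.all_eq_true.1 (show (List.range 18).all
        (fun i => Nat.ble (bad.getD i (0, [], [], [])).2.1.length 3) = true by decide +kernel) i
          (List.mem_range.2 (by omega)))
    generalize bad.getD i (0, [], [], []) = q at hb hlen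
    obtain ⟨q0, b1, W1, W2⟩ := q
    simp only [Bool.and_eq_true] at hb
    obtain ⟨hck, hno⟩ := hb
    have hck' : ∀ k < 3, evC (CL.getD (6 + i) []) (wSW.getD k []) = b1.getD k idc ∧
        evC gc (W1.getD k []) = b1.getD k idc ∧ evC gc (W2.getD k []) = evC b1 (W1.getD k []) := by
      intro k hk
      have := List.all_eq_true.1 hck k (by interval_cases k <;> simp)
      simp only [Bool.and_eq_true, Nat.beq_eq] at this
      exact ⟨this.1.1, this.1.2, this.2⟩
    obtain ⟨-, -, -, -, -, -, -, -, -, -, -, g12⟩ := gen_words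
    set z := y * S.f wE with hz
    have h1 : Imgs S z b1 := by
      intro k hk
      have hws := List.all_eq_true.1 g12 k (by interval_cases k <;> simp)
      simp only [Bool.and_eq_true, Nat.beq_eq] at hws
      refine (wE_pair (S := S) ⟨k, hk⟩).comp ?_
      rw [← (hck' k hk).1]
      exact h.word_of_eq hl hws.1
    have h2 : ∀ k < 3, Pair S (z * (z * z)) (gc.getD k idc) (evC b1 (W2.getD k [])) := by
      intro k hk
      have p2 : Pair S (z * z) (gc.getD k idc) (evC b1 (W1.getD k [])) :=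
        (h1 k hk).comp (h1.word_of_eq hlen (hck' k hk).2.1)
      exact p2.comp (h1.word_of_eq hlen (hck' k hk).2.2)
    have hu2 : S.f uE * S.f uE = 1 := by rw [← map_mul, uE_sq, map_one]
    have hwu : S.f wE * S.f uE * (S.f wE)⁻¹ = S.f uE * S.t := by
      rw [← map_mul, ← map_inv, ← map_mul, wE_uE, mul_inv_cancel_right, map_mul, f_tD]
    have zt : z * S.t * z⁻¹ = S.f uE := by
      rw [hz, mul_inv_rev, show y * S.f wE * S.t * ((S.f wE)⁻¹ * y⁻¹) =
        y * (S.f wE * S.t * (S.f wE)⁻¹) * y⁻¹ by group, f_comm_t wE, mul_inv_cancel_right, hy.1]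
    have zu : z * S.f uE * z⁻¹ = S.t * S.f uE := by
      rw [hz, mul_inv_rev, show y * S.f wE * S.f uE * ((S.f wE)⁻¹ * y⁻¹) =
        y * (S.f wE * S.f uE * (S.f wE)⁻¹) * y⁻¹ by group, hwu, ← conj_mul, hy.2, hy.1]
    have ztu : z * (S.t * S.f uE) * z⁻¹ = S.t := by
      rw [← conj_mul, zt, zu, ← f_comm_t uE, ← mul_assoc, hu2, one_mul]
    rw [not_noConj (S := S) (y := z * (z * z)) ?_ ?_
      (imgs_one (h2 0 (by omega)) (h2 1 (by omega)) (h2 2 (by omega)))] at hno
    · exact absurd hno (by decide)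
    · exact mul_inv_eq_iff_eq_mul.1 (by
        rw [mul_inv_rev, mul_inv_rev, show z * (z * z) * S.t * (z⁻¹ * z⁻¹ * z⁻¹) =
          z * (z * (z * S.t * z⁻¹) * z⁻¹) * z⁻¹ by group, zt, zu, ztu])
    · exact mul_inv_eq_iff_eq_mul.1 (by
        rw [mul_inv_rev, mul_inv_rev, show z * (z * z) * S.f uE * (z⁻¹ * z⁻¹ * z⁻¹) =
          z * (z * (z * S.f uE * z⁻¹) * z⁻¹) * z⁻¹ by group, zu, ztu, zt])

/-- An exchanging element can be chosen to be an involution acting in one of six ways. -/
theorem exists_invol {x : G} (hx : Swaps S x) :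
    ∃ y, Swaps S y ∧ y * y = 1 ∧ ∃ j < 6, Imgs S y (CL.getD j []) := by
  obtain ⟨y, hy, j, hj, h⟩ := exists_class hx
  have hj6 := class_good hy hj h
  obtain ⟨hgood, hcen, -⟩ := good_check
  have hsq : ∀ k < 3, Pair S (y * y) (gc.getD k idc) (gc.getD k idc) := by
    intro k hk
    have hkm : k ∈ [0, 1, 2] := by interval_cases k <;> simp
    have e := Nat.eq_of_beq_eq_true (List.all_eq_true.1 (List.all_eq_true.1 hgood j
      (List.mem_range.2 hj6)) k hkm)
    have hw := Nat.eq_of_beq_eq_true (List.all_eq_true.1 (List.all_eq_true.1 class_words j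
      (List.mem_range.2 hj)) k hkm)
    have := (h k hk).comp (h.word_of_eq (CL_len j) hw)
    rwa [e] at this
  obtain ⟨d, hd, hdy⟩ := exists_Dg (S := S) (g := y * y)
    (mul_inv_eq_iff_eq_mul.1 (by
      rw [mul_inv_rev, show y * y * S.t * (y⁻¹ * y⁻¹) = y * (y * S.t * y⁻¹) * y⁻¹ by group,
        hy.1, hy.2]))
    (mul_inv_eq_iff_eq_mul.1 (by
      rw [mul_inv_rev, show y * y * S.f uE * (y⁻¹ * y⁻¹) = y * (y * S.f uE * y⁻¹) * y⁻¹ by group,
        hy.2, hy.1]))
  obtain ⟨c, hc, hr⟩ := code_of_Dg hd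
  have hcomm : ([0, 1, 2].all fun k => Nat.beq (cm c (gc.getD k idc)) (cm (gc.getD k idc) c)) = true := by
    simp only [List.all_eq_true, Nat.beq_eq]
    intro k hk
    have hk3 : k < 3 := by simp at hk; omega
    exact commute_of_pair hr (hdy.symm ▸ hsq k hk3)
  have hmem := List.all_eq_true.1 hcen c hc
  rw [hcomm, Bool.not_true, Bool.false_or, hasB_iff] at hmem
  have hfix : y * S.f d * y⁻¹ = S.f d := by rw [hdy]; group
  simp only [List.mem_cons, List.not_mem_nil, or_false] at hmem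
  rcases hmem with rfl | rfl | rfl | rfl
  · refine ⟨y, hy, ?_, j, hj6, h⟩
    rw [← hdy, hr.eq rep_one, map_one]
  · rw [hr.eq rep_t, f_tD, hy.1] at hfix
    exact absurd (S.inj (hfix.trans f_tD.symm)) uE_ne_t
  · rw [hr.eq rep_u, hy.2] at hfix
    exact absurd (S.inj (f_tD.trans hfix)) uE_ne_t.symm
  · rw [hr.eq (rep_t.mul rep_u)] at hdy
    have htt : S.t * S.t = 1 := by rw [← f_tD, ← map_mul, show tD * tD = 1 from Subtype.ext tt_sq, map_one]
    refine ⟨y * S.t, ⟨?_, ?_⟩, ?_, j, hj6, ?_⟩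
    · rw [show y * S.t * S.t * (y * S.t)⁻¹ = y * S.t * y⁻¹ by group, hy.1]
    · rw [show y * S.t * S.f uE * (y * S.t)⁻¹ = y * (S.t * S.f uE * S.t⁻¹) * y⁻¹ by group,
        ← f_comm_t uE, mul_inv_cancel_right, hy.2]
    · rw [show y * S.t * (y * S.t) = y * S.t * y⁻¹ * (y * y) * S.t by group, hy.1, ← hdy, map_mul,
        f_tD, ← f_comm_t uE, ← mul_assoc, ← map_mul, uE_sq, map_one, one_mul, htt]
    · intro k hk
      obtain ⟨p, q, hp, hq, e⟩ := h k hk
      refine ⟨p, q, hp, hq, ?_⟩
      rw [show y * S.t * S.f p * (y * S.t)⁻¹ = y * (S.t * S.f p * S.t⁻¹) * y⁻¹ by group,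
        ← f_comm_t p, mul_inv_cancel_right]
      exact e

theorem fP_liftW (S : Setting G) (w : List (Fin 9)) : S.fP (liftW w) = S.f (wd w) := by
  rw [← wd_val, fP_eq S (wd w).2]

/-- The setting transported by the outer automorphism. -/
noncomputable def twist (S : Setting G) : Setting G where
  t := S.t
  ord := S.ord
  f := S.f.comp od
  inj := S.inj.comp (Function.LeftInverse.injective od_od)
  range := by
    rw [MonoidHom.range_comp, MonoidHom.range_eq_top.2 fun d => ⟨od d, od_od d⟩,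
      ← MonoidHom.range_eq_map, S.range]
  map_t := by
    show S.f (od tD) = S.t
    rw [od_t, f_tD]

/-- There are three possibilities for an exchanging involution. -/
theorem exists_alpha (S : Setting G) {x : G} (hxt : x * S.t * x⁻¹ = S.fP (liftW uD))
    (hxu : x * S.fP (liftW uD) * x⁻¹ = S.t) :
    ∃ (S' : Setting G) (y : G) (j : Fin 3), S'.t = S.t ∧ y * y = 1 ∧
      y * S'.t * y = S'.fP (liftW uD) ∧ y * S'.fP (liftW uD) * y = S'.t ∧
      ∀ k : Fin 3, y * S'.fP (liftW (gen k)) * y = S'.fP (liftW (img j k)) := by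
  rw [fP_liftW] at hxt hxu
  obtain ⟨y, hy, hy2, j, hj, h⟩ := exists_invol (S := S) (x := x) ⟨hxt, hxu⟩
  have hyi : y⁻¹ = y := inv_eq_of_mul_eq_one_right hy2
  have hcw := fun (k j : Fin 3) => And.intro (rep_of_codeB (code_od k))
    (And.intro (rep_of_codeB (code_img j k)) (rep_of_codeB (code_odimg j k)))
  rcases Nat.lt_or_ge j 3 with h3 | h3
  · refine ⟨S, y, ⟨j, h3⟩, rfl, hy2, ?_, ?_, fun k => ?_⟩
    · rw [fP_liftW]; simpa [hyi, uE] using hy.1
    · rw [fP_liftW]; simpa [hyi, uE] using hy.2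
    · obtain ⟨p, q, hp, hq, e⟩ := h k.val k.isLt
      rw [fP_liftW, fP_liftW, show wd (gen k) = p from (rep_gen k).eq hp,
        (hcw k ⟨j, h3⟩).2.1.eq hq, ← e, hyi]
  · obtain ⟨i, rfl⟩ : ∃ i, j = 3 + i := ⟨j - 3, by omega⟩
    have hu : S.f (od (wd uD)) = S.f uE := congrArg S.f od_uE
    refine ⟨twist S, y, ⟨i, by omega⟩, rfl, hy2, ?_, ?_, fun k => ?_⟩
    · rw [fP_liftW]
      show y * S.t * y = S.f (od (wd uD))
      rw [hu]; simpa [hyi, uE] using hy.1
    · rw [fP_liftW]
      show y * S.f (od (wd uD)) * y = S.t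
      rw [hu]; simpa [hyi, uE] using hy.2
    · obtain ⟨-, -, hod⟩ := good_check
      have hkm : k.val ∈ [0, 1, 2] := by fin_cases k <;> simp
      obtain ⟨-, -, -, -, -, -, -, -, -, -, -, g12⟩ := gen_words
      have hw := List.all_eq_true.1 g12 k.val hkm
      simp only [Bool.and_eq_true, Nat.beq_eq] at hw
      have hi := Nat.eq_of_beq_eq_true (List.all_eq_true.1 (List.all_eq_true.1 hod i
        (List.mem_range.2 (by omega))) k.val hkm)
      have hp := h.word_of_eq (CL_len (3 + i)) hw.2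
      rw [hi] at hp
      obtain ⟨p, q, hp', hq, e⟩ := hp
      rw [fP_liftW, fP_liftW]
      show y * S.f (od (wd (gen k))) * y = S.f (od (wd (img ⟨i, _⟩ k)))
      rw [od_wd, od_wd, (hcw k ⟨i, by omega⟩).1.eq hp', (hcw k ⟨i, by omega⟩).2.2.eq hq, ← e, hyi]

/-- Three possibilities in a simple group. -/
theorem exists_alpha_simple [Finite G] [IsSimpleGroup G] (S : Setting G) :
    ∃ (S' : Setting G) (y : G) (j : Fin 3), S'.t = S.t ∧ y * y = 1 ∧
      y * S'.t * y = S'.fP (liftW uD) ∧ y * S'.fP (liftW uD) * y = S'.t ∧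
      ∀ k : Fin 3, y * S'.fP (liftW (gen k)) * y = S'.fP (liftW (img j k)) := by
  obtain ⟨x, hxt, hxu⟩ := exists_swap_of S (y := liftW uD) (wd_val uD ▸ (wd uD).2)
    (by rw [← wd_val, ← Subgroup.coe_mul, show wd uD * wd uD = 1 from uE_sq]; rfl)
    (fun e => uE_ne_one (Subtype.ext ((wd_val uD).trans e)))
    (fun e => uE_ne_t (Subtype.ext ((wd_val uD).trans e)))
  exact exists_alpha S hxt hxu

end Cfsg.Agent.LyRec.Alpha
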