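import Cfsg.Agent.LyRec.Alpha.Hom
import Cfsg.Agent.LyRec.Alpha.Data

/-!
# Coded elements of the cover: a permutation on eleven points and one on an orbit of spinors
-/

set_option autoImplicit false
set_option maxRecDepth 100000

namespace Cfsg.Agent.LyRec.Alpha

open Cfsg.Agent.LyLocal Cfsg.Agent.LyMat Cfsg.Agent.CosetCert

variable [IsSimpleGroup P]

/-- A point of a code. -/
def pget (c i : Nat) : Nat := Nat.land (Nat.shiftRight c (6 * i)) 63

/-- The composite of the first `n` points of `a` with `b`. -/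
noncomputable def cmN : Nat → Nat → Nat → Nat :=
  fun n => Nat.rec (motive := fun _ => Nat → Nat → Nat) (fun _ _ => 0)
    (fun _ ih a b => force (Nat.shiftRight a 6) fun a' => force (ih a' b) fun r =>
      Nat.add (pget b (Nat.land a 63)) (Nat.mul 64 r)) n

/-- The product of two codes. -/
noncomputable def cm (a b : Nat) : Nat := cmN 35 a b

theorem cmN_succ (n a b : Nat) :
    cmN (n + 1) a b = pget b (pget a 0) + 64 * cmN n (Nat.shiftRight a 6) b := by
  unfold cmN
  simp only [force_eq]
  rfl

theorem pget_lt (c i : Nat) : pget c i < 64 := Nat.lt_succ_of_le Nat.and_le_right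

theorem pget_eq (c i : Nat) : pget c i = c / 64 ^ i % 64 := by
  show (c >>> (6 * i)) &&& 63 = _
  rw [Nat.shiftRight_eq_div_pow, show (63 : Nat) = 2 ^ 6 - 1 by norm_num,
    Nat.and_two_pow_sub_one_eq_mod, pow_mul]
  norm_num

theorem pget_shift (a i : Nat) : pget (Nat.shiftRight a 6) i = pget a (i + 1) := by
  rw [pget_eq, pget_eq]
  show a >>> 6 / 64 ^ i % 64 = _
  rw [Nat.shiftRight_eq_div_pow, Nat.div_div_eq_div_mul]
  congr 2
  ring

theorem pget_cmN : ∀ n a b i : Nat, i < n → pget (cmN n a b) i = pget b (pget a i)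
  | 0, _, _, _, h => absurd h (Nat.not_lt_zero _)
  | n + 1, a, b, 0, _ => by
    rw [cmN_succ, pget_eq]
    have := pget_lt b (pget a 0)
    omega
  | n + 1, a, b, i + 1, h => by
    have hlt := pget_lt b (pget a 0)
    rw [cmN_succ, pget_eq, pow_succ', ← Nat.div_div_eq_div_mul,
      show (pget b (pget a 0) + 64 * cmN n (Nat.shiftRight a 6) b) / 64 =
        cmN n (Nat.shiftRight a 6) b by omega, ← pget_eq, pget_cmN n _ b i (by omega), pget_shift]

theorem cmN_congr : ∀ n a b a' b' : Nat,
    (∀ i < n, pget b (pget a i) = pget b' (pget a' i)) → cmN n a b = cmN n a' b'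
  | 0, _, _, _, _, _ => rfl
  | n + 1, a, b, a', b', h => by
    rw [cmN_succ, cmN_succ, h 0 (by omega), cmN_congr n (Nat.shiftRight a 6) b
      (Nat.shiftRight a' 6) b' fun i hi => by rw [pget_shift, pget_shift]; exact h _ (by omega)]

theorem idc_check : ((List.range 35).all fun i => Nat.beq (pget idc i) i) = true := by decide +kernel

theorem pget_idc {i : Nat} (h : i < 35) : pget idc i = i :=
  Nat.eq_of_beq_eq_true (List.all_eq_true.1 idc_check i (List.mem_range.2 h))

/-- The vectors of the orbit. -/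
noncomputable def rv (k : Nat) : Fin 32 → ZMod 5 := fun j => (fieldN (orbL.getD k 0) j : ℕ)

theorem rv_inj : ∀ k l : Fin 24, rv k = rv l → k = l := by
  have h : ∀ k l : Fin 24, ((List.finRange 32).map fun j => rv k j) =
      ((List.finRange 32).map fun j => rv l j) → k = l := by decide +kernel
  exact fun k l e => h k l (by rw [e])

theorem rv_neg : ∀ k : Fin 24, rv k ≠ -rv k := by
  have h : ∀ k : Fin 24, ((List.finRange 32).map fun j => rv k j) ≠
      ((List.finRange 32).map fun j => -rv k j) := by decide +kernel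
  exact fun k e => h k (List.map_congr_left fun j _ => congrFun e j)

/-- An element of the cover has a code. -/
structure Rep (d : DD) (c : Nat) : Prop where
  canon : cm c idc = c
  low : ∀ i, i < 11 → pget c i < 11
  high : ∀ i, 11 ≤ i → i < 35 → 11 ≤ pget c i ∧ pget c i < 35
  perm : ∀ i : Fin 11, ((((proj d)⁻¹ : A11) : Equiv.Perm (Fin 11)) i).val = pget c i.val
  orb : ∀ k, k < 24 → Matrix.vecMul (rv k) (spin d : Matrix (Fin 32) (Fin 32) (ZMod 5)) =
    rv (pget c (11 + k) - 11)

theorem Rep.lt {d : DD} {c : Nat} (h : Rep d c) {i : Nat} (hi : i < 35) : pget c i < 35 := by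
  rcases Nat.lt_or_ge i 11 with h' | h'
  · have := h.low i h'; omega
  · exact (h.high i h' hi).2

theorem Rep.mul {a b : DD} {c c' : Nat} (ha : Rep a c) (hb : Rep b c') :
    Rep (a * b) (cm c c') := by
  have hg : ∀ i < 35, pget (cm c c') i = pget c' (pget c i) := fun i hi => pget_cmN 35 _ _ i hi
  constructor
  · refine cmN_congr 35 _ _ _ _ fun i hi => ?_
    rw [hg i hi, pget_idc (hb.lt (ha.lt hi))]
  · intro i hi
    rw [hg i (by omega)]
    exact hb.low _ (ha.low i hi)
  · intro i h1 h2
    rw [hg i h2]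
    exact hb.high _ (ha.high i h1 h2).1 (ha.high i h1 h2).2
  · intro i
    rw [hg i.val (by have := i.isLt; omega), map_mul, mul_inv_rev, Subgroup.coe_mul,
      Equiv.Perm.mul_apply, hb.perm, ha.perm]
  · intro k hk
    have hh := ha.high (11 + k) (by omega) (by omega)
    rw [hg _ (by omega), map_mul, Units.val_mul, ← Matrix.vecMul_vecMul, ha.orb k hk,
      hb.orb _ (by omega), show 11 + (pget c (11 + k) - 11) = pget c (11 + k) by omega]

theorem Rep.unique {d : DD} {c c' : Nat} (h : Rep d c) (h' : Rep d c') : c = c' := by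
  rw [← h.canon, ← h'.canon]
  refine cmN_congr 35 _ _ _ _ fun i hi => ?_
  rw [pget_idc (h.lt hi), pget_idc (h'.lt hi)]
  rcases Nat.lt_or_ge i 11 with h1 | h1
  · rw [← h.perm ⟨i, h1⟩, ← h'.perm ⟨i, h1⟩]
  · obtain ⟨k, rfl⟩ := Nat.exists_eq_add_of_le h1
    have e := (h.orb k (by omega)).symm.trans (h'.orb k (by omega))
    have hk := h.high (11 + k) h1 hi
    have hk' := h'.high (11 + k) h1 hi
    have := rv_inj ⟨pget c (11 + k) - 11, by omega⟩ ⟨pget c' (11 + k) - 11, by omega⟩ e
    simp only [Fin.mk.injEq] at this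
    omega

theorem Rep.eq {a b : DD} {c : Nat} (ha : Rep a c) (hb : Rep b c) : a = b := by
  have hp : proj a = proj b := inv_injective (Subtype.ext (Equiv.ext fun i => Fin.ext
    ((ha.perm i).trans (hb.perm i).symm)))
  rcases eq_or_of_proj hp with h | h
  · exact Subtype.ext h
  · exfalso
    have hab : a = b * tD := Subtype.ext h
    have e := ha.orb 0 (by omega)
    rw [hab, map_mul, Units.val_mul, spin_t, Units.val_neg, Units.val_one, mul_neg, mul_one,
      Matrix.vecMul_neg, hb.orb 0 (by omega)] at e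
    have hk := hb.high (11 + 0) (by omega) (by omega)
    exact rv_neg ⟨pget c (11 + 0) - 11, by omega⟩ e.symm

/-- The check that a code is the code of a word. -/
noncomputable def codeB (w : List (Fin 9)) (c : Nat) : Bool :=
  Nat.beq (cm c idc) c &&
    ((List.finRange 11).all fun i => Nat.beq (pget c (((altW w : A11) : Equiv.Perm (Fin 11)) i).val) i.val
      && Nat.blt (pget c i.val) 11) &&
    ((List.range 24).all fun k => Nat.ble 11 (pget c (11 + k)) && Nat.blt (pget c (11 + k)) 35) &&
    actB orbL ((List.range 24).map (fun k => orbL.getD (pget c (11 + k) - 11) 0) ++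
      List.replicate 8 (orbL.getD (pget c 11 - 11) 0)) (w.map Fin.val)

theorem good_orbL : Good 32 orbL := good_of_check (by decide +kernel)

theorem rep_of_codeB {w : List (Fin 9)} {c : Nat} (h : codeB w c = true) : Rep (wd w) c := by
  simp only [codeB, Bool.and_eq_true, List.all_eq_true, List.mem_finRange, forall_const,
    List.mem_range, Nat.beq_eq, Nat.blt_eq, Nat.ble_eq] at h
  obtain ⟨⟨⟨hc, hp⟩, hh⟩, ha⟩ := h
  constructor
  · exact hc
  · exact fun i hi => (hp ⟨i, hi⟩).2
  · intro i h1 h2
    obtain ⟨k, rfl⟩ := Nat.exists_eq_add_of_le h1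
    exact hh k (by omega)
  · intro i
    obtain ⟨hm, hq⟩ := liftW_spec w
    have hw : proj (wd w) = altW w := by
      rw [← hq]; exact congrArg proj (Subtype.ext (wd_val w))
    rw [hw, Subgroup.coe_inv, Equiv.Perm.coe_inv]
    have h3 := (hp (((altW w : A11) : Equiv.Perm (Fin 11)).symm i)).1
    rw [Equiv.apply_symm_apply] at h3
    exact h3.symm
  · intro k hk
    have e := act_spec good_orbL ha
    rw [← spin_wd] at e
    funext j
    have e2 := congrFun (congrFun e ⟨k, by omega⟩) j
    rw [Matrix.mul_apply_eq_vecMul] at e2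
    refine e2.trans ?_
    show ((fieldN (List.getD _ k 0) j : ℕ) : ZMod 5) = _
    rw [List.getD_append _ _ _ _ (by simpa using hk), List.getD_eq_getElem _ _ (by simpa using hk),
      List.getElem_map, List.getElem_range]
    rfl

/-- Equality of two words in the cover. -/
noncomputable def eqW (w v : List (Fin 9)) : Bool :=
  (List.finRange 11).all (fun i =>
      decide (((altW w : A11) : Equiv.Perm (Fin 11)) i = ((altW v : A11) : Equiv.Perm (Fin 11)) i)) &&
    wordK mask32 smB (w.map Fin.val) id32 fun P => actB id32 P (v.map Fin.val)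

theorem eq_of_eqW {w v : List (Fin 9)} (h : eqW w v = true) : wd w = wd v := by
  simp only [eqW, Bool.and_eq_true, List.all_eq_true, List.mem_finRange, forall_const,
    decide_eq_true_eq] at h
  obtain ⟨hp, hm⟩ := h
  rw [mask32] at hm
  obtain ⟨Q, -, hQ, hk⟩ := wordK_spec (by norm_num) smB good_smB (w.map Fin.val) id32
    (fun P => actB id32 P (v.map Fin.val)) good_id32
  rw [hk] at hm
  have e := act_spec good_id32 hm
  rw [toMat_id32, one_mul] at e hQ
  have hs : (spin (wd w) : Matrix (Fin 32) (Fin 32) (ZMod 5)) = spin (wd v) := by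
    rw [spin_wd, spin_wd, e]
    exact hQ.symm
  obtain ⟨hw, hwp⟩ := liftW_spec w
  obtain ⟨hv, hvp⟩ := liftW_spec v
  have hpp : proj (wd w) = proj (wd v) := by
    rw [show wd w = ⟨liftW w, hw⟩ from Subtype.ext (wd_val w),
      show wd v = ⟨liftW v, hv⟩ from Subtype.ext (wd_val v), hwp, hvp]
    exact Subtype.ext (Equiv.ext hp)
  rcases eq_or_of_proj hpp with h' | h'
  · exact Subtype.ext h'
  · exfalso
    have hab : wd w = wd v * tD := Subtype.ext h'
    rw [hab, map_mul, Units.val_mul, spin_t, Units.val_neg, Units.val_one, mul_neg, mul_one] at hs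
    have h1 : (1 : Matrix (Fin 32) (Fin 32) (ZMod 5)) = -1 := by
      have := congrArg (fun X => ((spin (wd v))⁻¹ : (Matrix (Fin 32) (Fin 32) (ZMod 5))ˣ).val * X) hs
      simpa using this.symm
    exact absurd (congrFun (congrFun h1 0) 0) (by decide +kernel)

end Cfsg.Agent.LyRec.Alpha
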