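import Cfsg.Agent.LyRec.Alpha.Cent
import Cfsg.Agent.LyRec.Setting

/-!
# Conjugation by group elements, read on codes
-/

set_option autoImplicit false
set_option maxRecDepth 100000

namespace Cfsg.Agent.LyRec.Alpha

open Cfsg.Agent.LyLocal Cfsg.Agent.CosetCert

variable [IsSimpleGroup P]

variable {G : Type*} [Group G] {S : Setting G}

/-- `y` conjugates the element of code `a` to the element of code `b`. -/
def Pair (S : Setting G) (y : G) (a b : Nat) : Prop :=
  ∃ d d' : DD, Rep d a ∧ Rep d' b ∧ y * S.f d * y⁻¹ = S.f d'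

theorem Pair.mul {y : G} {a b a' b' : Nat} (h : Pair S y a b) (h' : Pair S y a' b') :
    Pair S y (cm a a') (cm b b') := by
  obtain ⟨d, e, hd, he, heq⟩ := h
  obtain ⟨d', e', hd', he', heq'⟩ := h'
  refine ⟨d * d', e * e', hd.mul hd', he.mul he', ?_⟩
  rw [map_mul, map_mul, ← heq, ← heq']
  group

theorem Pair.one (y : G) : Pair S y idc idc :=
  ⟨1, 1, rep_one, rep_one, by rw [map_one, mul_one, mul_inv_cancel]⟩

theorem Pair.right {y : G} {a b b' : Nat} (h : Pair S y a b) (h' : Pair S y a b') : b = b' := by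
  obtain ⟨d, e, hd, he, heq⟩ := h
  obtain ⟨d', e', hd', he', heq'⟩ := h'
  rw [hd.eq hd', heq'] at heq
  exact he.unique (S.inj heq ▸ he')

theorem Pair.left {y : G} {a a' b : Nat} (h : Pair S y a b) (h' : Pair S y a' b) : a = a' := by
  obtain ⟨d, e, hd, he, heq⟩ := h
  obtain ⟨d', e', hd', he', heq'⟩ := h'
  rw [he.eq he', ← heq'] at heq
  have := S.inj (mul_left_cancel (mul_right_cancel heq))
  exact hd.unique (this ▸ hd')

theorem Pair.comp {x y : G} {a b c : Nat} (h : Pair S x a b) (h' : Pair S y b c) :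
    Pair S (y * x) a c := by
  obtain ⟨d, e, hd, he, heq⟩ := h
  obtain ⟨d', e', hd', he', heq'⟩ := h'
  refine ⟨d, e', hd, he', ?_⟩
  rw [← heq', ← he.eq hd', ← heq]
  group

/-- The images of the generators under conjugation by `y`. -/
def Imgs (S : Setting G) (y : G) (im : List Nat) : Prop :=
  ∀ k < 3, Pair S y (gc.getD k idc) (im.getD k idc)

theorem Imgs.word {y : G} {im : List Nat} (h : Imgs S y im) (hl : im.length ≤ 3) (w : List Nat) :
    Pair S y (evC gc w) (evC im w) := by
  have hk : ∀ k, Pair S y (gc.getD k idc) (im.getD k idc) := fun k => by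
    rcases Nat.lt_or_ge k 3 with h3 | h3
    · exact h k h3
    · rw [List.getD_eq_default _ _ (by simp [gc]; omega), List.getD_eq_default _ _ (by omega)]
      exact Pair.one y
  suffices key : ∀ (w : List Nat) (a b : Nat), Pair S y a b → Pair S y
      (List.rec (motive := fun _ => Nat → Nat) (fun acc => acc)
        (fun x _ ih acc => force (cm acc (gc.getD x idc)) ih) w a)
      (List.rec (motive := fun _ => Nat → Nat) (fun acc => acc)
        (fun x _ ih acc => force (cm acc (im.getD x idc)) ih) w b) from key w idc idc (Pair.one y)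
  intro w
  induction w with
  | nil => exact fun a b h => h
  | cons x w ih =>
    intro a b hab
    simp only [force_eq] at ih ⊢
    exact ih _ _ (hab.mul (hk x))

theorem Imgs.word_of_eq {y : G} {im : List Nat} (h : Imgs S y im) (hl : im.length ≤ 3) {w : List Nat}
    {c : Nat} (hw : evC gc w = c) : Pair S y c (evC im w) := hw ▸ h.word hl w

theorem pair_inner {d d₁ d₂ : DD} {c a b : Nat} (hd : Rep d c) (ha : Rep d₁ a) (hb : Rep d₂ b)
    (h : cm c a = cm b c) : Pair S (S.f d) a b := by
  refine ⟨d₁, d₂, ha, hb, ?_⟩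
  rw [mul_inv_eq_iff_eq_mul, ← map_mul, ← map_mul]
  exact congrArg S.f ((hd.mul ha).eq (h ▸ hb.mul hd))

theorem commute_of_pair {d : DD} {c a b : Nat} (hd : Rep d c) (h : Pair S (S.f d) a b) :
    cm c a = cm b c := by
  obtain ⟨d₁, d₂, ha, hb, e⟩ := h
  rw [mul_inv_eq_iff_eq_mul, ← map_mul, ← map_mul] at e
  exact (hd.mul ha).unique ((S.inj e).symm ▸ hb.mul hd)

theorem f_tD : S.f tD = S.t := S.map_t

/-- An element fixing both involutions lies in the image of their centraliser. -/
theorem exists_Dg {g : G} (ht : g * S.t = S.t * g) (hu : g * S.f uE = S.f uE * g) :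
    ∃ d ∈ Dg, S.f d = g := by
  have hm : g ∈ S.f.range := by
    rw [S.range, Subgroup.mem_centralizer_singleton_iff]
    exact ht
  obtain ⟨d, rfl⟩ := hm
  rw [← map_mul, ← map_mul] at hu
  exact ⟨d, mem_Dg.2 (S.inj hu), rfl⟩

theorem f_comm_t (d : DD) : S.f d * S.t = S.t * S.f d := by
  rw [← f_tD, ← map_mul, ← map_mul, tD_comm]

theorem f_comm_u {d : DD} (hd : d ∈ Dg) : S.f d * S.f uE = S.f uE * S.f d := by
  rw [← map_mul, ← map_mul, mem_Dg.1 hd]

end Cfsg.Agent.LyRec.Alpha
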